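import Groth.Prelude.Def_W4c2gerbepatchBitors
import Mathlib

set_option linter.unusedSectionVars false
set_option linter.unusedVariables false
set_option linter.unusedSimpArgs false
set_option autoImplicit false
set_option linter.style.haveILetI false
set_option maxHeartbeats 400000

/-!
# Bitorsor structures versus isomorphism families
-/

noncomputable section

namespace Groth.Agent.Helper6.BitorsL

universe w v u
open CategoryTheory Opposite

variable {C : Type u} [Category.{v} C] {J : GrothendieckTopology C}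
    {G H : Sheaf J GrpCat.{w}} {P : NonAbH1.GSheaf G}

/-- the unique element of `G` carrying `p` to `q` -/
def tr (hP : P.IsPseudoTorsor) {U : Cᵒᵖ} (p q : P.P.obj.obj U) : G.obj.obj U :=
  (hP U p q).choose

lemma tr_spec (hP : P.IsPseudoTorsor) {U : Cᵒᵖ} (p q : P.P.obj.obj U) :
    P.smul (tr hP p q) p = q := (hP U p q).choose_spec.1

lemma tr_uniq (hP : P.IsPseudoTorsor) {U : Cᵒᵖ} (p q : P.P.obj.obj U) (g : G.obj.obj U)
    (h : P.smul g p = q) : g = tr hP p q :=
  (hP U p q).choose_spec.2 g h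

lemma smul_cancel (hP : P.IsPseudoTorsor) {U : Cᵒᵖ} (p : P.P.obj.obj U) (g g' : G.obj.obj U)
    (h : P.smul g p = P.smul g' p) : g = g' :=
  (tr_uniq hP p _ g h).trans (tr_uniq hP p _ g' rfl).symm

lemma isomFamily_ext (φ φ' : Bitors.IsomFamily P H)
    (h : ∀ (U : Cᵒᵖ) (p : P.P.obj.obj U) (x : H.obj.obj U), φ.φ p x = φ'.φ p x) : φ = φ' := by
  obtain ⟨f, h1, h2⟩ := φ
  obtain ⟨f', h1', h2'⟩ := φ'
  have : @f = @f' := by
    funext U p
    exact MulEquiv.ext (h U p)
  subst this
  rfl

lemma rightStr_ext (ρ ρ' : Bitors.RightStr P H)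
    (h : ∀ (U : Cᵒᵖ) (p : P.P.obj.obj U) (x : H.obj.obj U), ρ.rsmul p x = ρ'.rsmul p x) :
    ρ = ρ' := by
  obtain ⟨f, h1, h2, h3, h4, h5⟩ := ρ
  obtain ⟨f', h1', h2', h3', h4', h5'⟩ := ρ'
  have : @f = @f' := by
    funext U p x
    exact h U p x
  subst this
  rfl

/-- the isomorphism family attached to a right structure -/
def isomFamilyOf (hP : P.IsPseudoTorsor) (ρ : Bitors.RightStr P H) : Bitors.IsomFamily P H where
  φ {U} p :=
    { toFun := fun h => tr hP p (ρ.rsmul p h)
      invFun := fun g => (ρ.existsUnique_rsmul p (P.smul g p)).choose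
      left_inv := fun h => by
        have := (ρ.existsUnique_rsmul p (P.smul (tr hP p (ρ.rsmul p h)) p)).choose_spec.2 h
          (by rw [tr_spec])
        exact this.symm
      right_inv := fun g => by
        have h1 := (ρ.existsUnique_rsmul p (P.smul g p)).choose_spec.1
        exact (tr_uniq hP p _ g h1.symm).symm
      map_mul' := fun h h' => by
        symm
        apply tr_uniq
        rw [P.mul_smul, tr_spec, ← ρ.smul_rsmul, tr_spec, ρ.rsmul_mul] }
  map_φ {U V} f p h := by
    show G.obj.map f (tr hP p (ρ.rsmul p h)) = tr hP _ _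
    apply tr_uniq
    rw [← P.map_smul, tr_spec, ρ.map_rsmul]
  φ_smul {U} g p h := by
    show tr hP (P.smul g p) (ρ.rsmul (P.smul g p) h) = g * tr hP p (ρ.rsmul p h) * g⁻¹
    symm
    apply tr_uniq
    rw [← P.mul_smul, inv_mul_cancel_right, P.mul_smul, tr_spec, ρ.smul_rsmul]

lemma isomFamilyOf_spec (hP : P.IsPseudoTorsor) (ρ : Bitors.RightStr P H) {U : Cᵒᵖ}
    (p : P.P.obj.obj U) (h : H.obj.obj U) :
    ρ.rsmul p h = P.smul ((isomFamilyOf hP ρ).φ p h) p := (tr_spec hP p _).symm

/-- the right structure attached to an isomorphism family -/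
def rightStrOf (hP : P.IsPseudoTorsor) (φ : Bitors.IsomFamily P H) : Bitors.RightStr P H where
  rsmul {U} p h := P.smul (φ.φ p h) p
  rsmul_one p := by rw [map_one, P.one_smul]
  rsmul_mul p h h' := by
    rw [φ.φ_smul, ← P.mul_smul, inv_mul_cancel_right, map_mul]
  map_rsmul f p h := by rw [P.map_smul, φ.map_φ]
  smul_rsmul g p h := by
    rw [φ.φ_smul, ← P.mul_smul, inv_mul_cancel_right, P.mul_smul]
  existsUnique_rsmul p q := by
    refine ⟨(φ.φ p).symm (tr hP p q), ?_, ?_⟩
    · simp only [MulEquiv.apply_symm_apply]; exact tr_spec hP p q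
    · intro h hh
      rw [MulEquiv.eq_symm_apply]
      exact tr_uniq hP p q _ hh

end Groth.Agent.Helper6.BitorsL
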