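import Groth.Agent.Lib.Helper6.Bitors.Basic

set_option linter.unusedSectionVars false
set_option linter.unusedVariables false
set_option linter.unusedSimpArgs false
set_option autoImplicit false
set_option linter.style.haveILetI false
set_option maxHeartbeats 400000

/-!
# Equivariance of morphisms of bitorsors in terms of isomorphism families
-/

noncomputable section

namespace Groth.Agent.Helper6.BitorsL

universe w v u
open CategoryTheory Opposite

variable {C : Type u} [Category.{v} C] {J : GrothendieckTopology C}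
    {G H : Sheaf J GrpCat.{w}} {P P' : NonAbH1.GSheaf G}

theorem equivariant_iff (hP' : P'.IsPseudoTorsor)
    (ρ : Bitors.RightStr P H) (ρ' : Bitors.RightStr P' H)
    (φ : Bitors.IsomFamily P H) (φ' : Bitors.IsomFamily P' H)
    (hρ : ∀ (U : Cᵒᵖ) (p : P.P.obj.obj U) (h : H.obj.obj U), ρ.rsmul p h = P.smul (φ.φ p h) p)
    (hρ' : ∀ (U : Cᵒᵖ) (p : P'.P.obj.obj U) (h : H.obj.obj U),
      ρ'.rsmul p h = P'.smul (φ'.φ p h) p)
    (f : P ⟶ P') :
    (∀ (U : Cᵒᵖ) (p : P.P.obj.obj U) (h : H.obj.obj U),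
        f.hom.hom.app U (ρ.rsmul p h) = ρ'.rsmul (f.hom.hom.app U p) h) ↔
      ∀ (U : Cᵒᵖ) (p : P.P.obj.obj U) (h : H.obj.obj U),
        φ.φ p h = φ'.φ (f.hom.hom.app U p) h := by
  constructor
  · intro hf U p h
    apply smul_cancel hP' (f.hom.hom.app U p)
    rw [← hρ', ← hf, hρ, f.map_smul]
  · intro hf U p h
    rw [hρ, hρ', f.map_smul, hf]

lemma map_hom_app (f : P ⟶ P') {U V : Cᵒᵖ} (t : U ⟶ V) (p : P.P.obj.obj U) :
    f.hom.hom.app V (P.P.obj.map t p) = P'.P.obj.map t (f.hom.hom.app U p) := by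
  have := ConcreteCategory.congr_hom (f.hom.hom.naturality t) p
  simp

/-- sections of a sheaf of groups agreeing on a covering sieve are equal -/
lemma grp_ext_of_covering {U : C} (S : Sieve U) (hS : S ∈ J U) (a b : G.obj.obj (op U))
    (h : ∀ ⦃V : C⦄ (t : V ⟶ U), S t → G.obj.map t.op a = G.obj.map t.op b) : a = b := by
  let E : GrpCat.{w} := GrpCat.of (ULift.{w} (Multiplicative ℤ))
  let ψ : ∀ {W : Cᵒᵖ}, G.obj.obj W → (E ⟶ G.obj.obj W) := fun {W} x =>
    GrpCat.ofHom ((zpowersHom _ x).comp MulEquiv.ulift.toMonoidHom)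
  have hψ : ∀ {W : Cᵒᵖ} (x : G.obj.obj W), (ψ x).hom ⟨Multiplicative.ofAdd 1⟩ = x := by
    intro W x
    simp only [ψ, GrpCat.hom_ofHom, MonoidHom.coe_comp, Function.comp_apply, zpowersHom_apply]
    exact zpow_one x
  have hsh := (G.property E).isSeparated S hS
  have h2 : ψ a = ψ b := by
    apply hsh.ext
    intro V t ht
    show ψ a ≫ G.obj.map t.op = ψ b ≫ G.obj.map t.op
    ext x
    simp only [ψ, GrpCat.hom_comp, GrpCat.hom_ofHom, MonoidHom.coe_comp, Function.comp_apply,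
      zpowersHom_apply, map_zpow, h t ht]
  rw [← hψ a, ← hψ b, h2]

theorem equivariant_iff_of_section (hP : P.IsPseudoTorsor) (hP' : P'.IsPseudoTorsor)
    (ρ : Bitors.RightStr P H) (ρ' : Bitors.RightStr P' H)
    (φ : Bitors.IsomFamily P H) (φ' : Bitors.IsomFamily P' H)
    (hρ : ∀ (U : Cᵒᵖ) (q : P.P.obj.obj U) (h : H.obj.obj U), ρ.rsmul q h = P.smul (φ.φ q h) q)
    (hρ' : ∀ (U : Cᵒᵖ) (q : P'.P.obj.obj U) (h : H.obj.obj U),
      ρ'.rsmul q h = P'.smul (φ'.φ q h) q)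
    (Y : C) (hY : J.CoversTop (fun _ : PUnit.{w + 1} => Y))
    (p : P.P.obj.obj (op Y)) (p' : P'.P.obj.obj (op Y)) (f : P ⟶ P') (g : G.obj.obj (op Y))
    (hg : f.hom.hom.app (op Y) p = P'.smul g p') :
    (∀ (U : Cᵒᵖ) (q : P.P.obj.obj U) (h : H.obj.obj U),
        f.hom.hom.app U (ρ.rsmul q h) = ρ'.rsmul (f.hom.hom.app U q) h) ↔
      ∀ (V : C) (t : V ⟶ Y) (h : H.obj.obj (op V)),
        φ.φ (P.P.obj.map t.op p) h =
          G.obj.map t.op g * φ'.φ (P'.P.obj.map t.op p') h * (G.obj.map t.op g)⁻¹ := by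
  rw [equivariant_iff hP' ρ ρ' φ φ' hρ hρ' f]
  have key : ∀ (V : C) (t : V ⟶ Y), f.hom.hom.app (op V) (P.P.obj.map t.op p) =
      P'.smul (G.obj.map t.op g) (P'.P.obj.map t.op p') := by
    intro V t
    rw [map_hom_app, hg, P'.map_smul]
  constructor
  · intro hf V t h
    rw [hf, key, φ'.φ_smul]
  · intro hf U q h
    obtain ⟨U⟩ := U
    apply grp_ext_of_covering _ (hY U)
    intro V t ht
    obtain ⟨i, ⟨s⟩⟩ := ht
    change V ⟶ Y at s
    -- the two sections over `V`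
    have hq : P.P.obj.map t.op q = P.smul (tr hP (P.P.obj.map s.op p) (P.P.obj.map t.op q))
        (P.P.obj.map s.op p) := (tr_spec hP _ _).symm
    rw [φ.map_φ, φ'.map_φ, ← map_hom_app, hq, f.map_smul, φ.φ_smul, φ'.φ_smul, hf, key,
      φ'.φ_smul]

end Groth.Agent.Helper6.BitorsL
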